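import Cfsg.Agent.Lib.Sporadic.OutCert.Co2.Defs

/-!
The straight line computation of the generators.
-/

set_option autoImplicit false
set_option maxRecDepth 100000
set_option maxHeartbeats 0
set_option Elab.async false

namespace CfsgLib.Sporadic.OutCert.Co2

theorem slp_G : slpCheck 12 2300 (gTab.map Prod.fst) slpG = true := by decide +kernel

theorem slp_G_at : slpVal (gTab.map Prod.fst) slpG (slpGAt.getD 0 0) = ka ∧
    slpVal (gTab.map Prod.fst) slpG (slpGAt.getD 1 0) = kn ∧
    slpVal (gTab.map Prod.fst) slpG (slpGAt.getD 2 0) = kb ∧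
    (slpGAt.all fun i => Nat.blt i (2 + slpG.length)) = true ∧ slpGAt.length = 3 := by decide +kernel

end CfsgLib.Sporadic.OutCert.Co2
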