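import Cfsg.Agent.Lib.Sporadic.OutCert.Co2.Defs

/-!
The chain of orbits.
-/

set_option autoImplicit false
set_option maxRecDepth 100000
set_option maxHeartbeats 0
set_option Elab.async false

namespace CfsgLib.Sporadic.OutCert.Co2

theorem slp_H : slpCheck 12 2300 [ka, kn, kb] slpH = true := by decide +kernel

theorem level_at : (levelData.all fun L => L.2.1.all fun i => Nat.blt i (3 + slpH.length)) = true ∧
    42305421312000 ≤ 22 * (levels.map fun L => L.orb.length + 1).prod := by decide +kernel

theorem levels_ok : levelsK 12 2300 levels = true := by decide +kernel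

end CfsgLib.Sporadic.OutCert.Co2
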