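import Cfsg.Agent.Lib.Sporadic.OutCert.Co2.Embed
import Cfsg.Agent.Lib.Sporadic.OutCert.Co2.CheckSlpG
import Cfsg.Agent.Lib.Sporadic.OutCert.Co2.CheckSlpH
import Cfsg.Agent.Lib.Sporadic.OutCert.Slp
import Cfsg.Agent.Lib.Sporadic.OutCert.OrbitBound

/-!
The three permutations generate the image of the second Conway group.
-/

set_option autoImplicit false
set_option maxRecDepth 10000

namespace CfsgLib.Sporadic.OutCert.Co2

open Cfsg CfsgLib.SmallGroups

attribute [local irreducible] lk pkF allF compK ka kai kn kni kb gTab vAt wAt slpG slpH levelData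

/-- The element of order 23. -/
noncomputable def pA : P := permOf ka kai base_valid.1

/-- The element of order 11. -/
noncomputable def pN : P := permOf kn kni base_valid.2.1

/-- The involution. -/
noncomputable def pB : P := permOf kb kb base_valid.2.2

theorem rep_A : Rep 12 2300 ka pA := rep_permOf _
theorem rep_N : Rep 12 2300 kn pN := rep_permOf _
theorem rep_B : Rep 12 2300 kb pB := rep_permOf _

/-- The subgroup they generate. -/
noncomputable def H : Subgroup P := Subgroup.closure {pA, pN, pB}

theorem A_mem : pA ∈ H := Subgroup.subset_closure (by simp)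
theorem N_mem : pN ∈ H := Subgroup.subset_closure (by simp)
theorem B_mem : pB ∈ H := Subgroup.subset_closure (by simp)

theorem H_le_range : H ≤ psi.range := by
  have hs := slp_sound hw slp_G (S := psi.range) fun i hi => by
    rw [List.length_map] at hi
    obtain ⟨g, hg⟩ := tab_mem_range (m := i) (by rw [← g_valid.2.1]; exact hi)
    refine ⟨psi g, ⟨g, rfl⟩, ?_⟩
    rw [List.getD_eq_getElem _ _ (by simpa using hi), List.getElem_map]
    rwa [List.getD_eq_getElem _ _ hi] at hg
  have hat : ∀ k < 3, slpGAt.getD k 0 < (gTab.map Prod.fst).length + slpG.length := by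
    intro k hk
    rw [List.length_map, g_valid.2.1, List.getD_eq_getElem _ _ (by rw [slp_G_at.2.2.2.2]; exact hk)]
    simpa [Nat.blt_eq] using List.all_eq_true.1 slp_G_at.2.2.2.1 _ (List.getElem_mem _)
  refine (Subgroup.closure_le _).2 ?_
  rintro x (rfl | rfl | rfl)
  · obtain ⟨g, hg, hr⟩ := hs _ (hat 0 (by norm_num))
    rw [slp_G_at.1] at hr
    rwa [rep_A.inj hr]
  · obtain ⟨g, hg, hr⟩ := hs _ (hat 1 (by norm_num))
    rw [slp_G_at.2.1] at hr
    rwa [rep_N.inj hr]
  · obtain ⟨g, hg, hr⟩ := hs _ (hat 2 (by norm_num))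
    rw [slp_G_at.2.2.1] at hr
    rwa [rep_B.inj hr]

theorem card_H_ge : 42305421312000 ≤ 22 * Nat.card H := by
  have hs := slp_sound hw slp_H (S := H) fun i hi => by
    simp only [List.length_cons, List.length_nil] at hi
    match i, hi with
    | 0, _ => exact ⟨pA, A_mem, rep_A⟩
    | 1, _ => exact ⟨pN, N_mem, rep_N⟩
    | 2, _ => exact ⟨pB, B_mem, rep_B⟩
  refine level_at.2.trans (Nat.mul_le_mul_left 22 (card_ge_levels levels H levels_ok ?_))
  intro L hL g hg
  obtain ⟨L', hL', rfl⟩ := List.mem_map.1 hL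
  obtain ⟨k, hk, rfl⟩ := List.mem_map.1 hg
  refine hs k ?_
  have := List.all_eq_true.1 (List.all_eq_true.1 level_at.1 L' hL') k hk
  simpa [Nat.blt_eq] using this

theorem psi_injective : Function.Injective psi := by
  have := G0_spec.2.2
  rw [← MonoidHom.ker_eq_bot_iff]
  refine (psi.normal_ker).eq_bot_or_eq_top.resolve_right fun htop => ?_
  obtain ⟨g, hg⟩ := H_le_range A_mem
  rw [show psi g = 1 from MonoidHom.mem_ker.1 (htop ▸ Subgroup.mem_top _)] at hg
  have h := rep_A ⟨xA, points.1⟩
  rw [← hg] at h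
  exact points.2.2.2.2.1 h

theorem H_eq_range : H = psi.range := by
  classical
  refine le_antisymm H_le_range ?_
  have hsimple := G0_spec.2.2
  let f : G0 ≃* psi.range := MonoidHom.ofInjective psi_injective
  let K : Subgroup G0 := H.comap psi
  by_contra hne
  have hK : K ≠ ⊤ := fun e => hne (by
    rintro _ ⟨g, rfl⟩
    exact (e.symm ▸ Subgroup.mem_top g : g ∈ K))
  have hcard : Nat.card K = Nat.card H := by
    rw [Nat.card_congr (K.equivMapOfInjective psi psi_injective).toEquiv, Subgroup.map_comap_eq,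
      inf_eq_right.2 H_le_range]
  have hidx : K.index ≤ 22 := by
    have h1 := K.index_mul_card
    rw [G0_spec.2.1, hcard] at h1
    have h2 := card_H_ge
    have hpos : 0 < Nat.card H := Nat.card_pos
    nlinarith
  let act := MulAction.toPermHom G0 (G0 ⧸ K)
  have hinj : Function.Injective act := by
    rw [← MonoidHom.ker_eq_bot_iff]
    refine (act.normal_ker).eq_bot_or_eq_top.resolve_right fun htop => hK ?_
    rw [← top_le_iff, ← htop, ← Subgroup.normalCore_eq_ker]
    exact Subgroup.normalCore_le K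
  have : Finite G0 := Nat.finite_of_card_ne_zero (by rw [G0_spec.2.1]; norm_num)
  have hd := Subgroup.card_dvd_of_injective act hinj
  rw [G0_spec.2.1, Nat.card_perm, ← Subgroup.index] at hd
  have h23 : 23 ∣ Nat.factorial K.index := Nat.dvd_trans (by norm_num) hd
  rw [Nat.Prime.dvd_factorial (by norm_num)] at h23
  omega

theorem H_spec : Nonempty (Cfsg.Spor.Co2 ≃* H) ∧ Nat.card H = 42305421312000 ∧ H ≤ pairStab cod := by
  obtain ⟨e⟩ := G0_spec.1
  let f : G0 ≃* H := (MonoidHom.ofInjective psi_injective).trans (MulEquiv.subgroupCongr H_eq_range.symm)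
  exact ⟨⟨e.trans f⟩, (Nat.card_congr f.toEquiv).symm.trans G0_spec.2.1, H_eq_range ▸ range_le_pairStab⟩

end CfsgLib.Sporadic.OutCert.Co2
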