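import Cfsg.Agent.Lib.Sporadic.OutCert.Co2.Defs

/-!
The orbits of the element of order 11 with the chosen patterns.
-/

set_option autoImplicit false
set_option maxRecDepth 100000
set_option maxHeartbeats 0
set_option Elab.async false

namespace CfsgLib.Sporadic.OutCert.Co2

theorem cent_X : (List.range 2300).all (centNK (autN xN) xN) = true := by decide +kernel

theorem cent_Y : (List.range 2300).all (centNK (autN yN) yN) = true := by decide +kernel

theorem cross_ok : ((List.range 11).all fun j =>
    Nat.beq j 0 || !(crossN xN (lk 12 (nPows.getD j 0) yN) == crossN xN yN)) = true := by decide +kernel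

end CfsgLib.Sporadic.OutCert.Co2
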