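import Cfsg.Agent.Lib.Sporadic.OutCert.Co2.Group
import Cfsg.Agent.Lib.Sporadic.OutCert.Co2.CheckSigA
import Cfsg.Agent.Lib.Sporadic.OutCert.Co2.CheckSigN
import Cfsg.Agent.Lib.Sporadic.OutCert.Co2.CheckCentA
import Cfsg.Agent.Lib.Sporadic.OutCert.Co2.CheckCentN

/-!
The centralisers of the elements of order 23 and 11.
-/

set_option autoImplicit false
set_option maxRecDepth 10000

namespace CfsgLib.Sporadic.OutCert.Co2

open Cfsg

attribute [local irreducible] lk pkF allF compK cod ka kai kn kni kb aPows nPows sigATree sigNTree tests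

theorem pow_rep {n : ℕ} {g : P} (hg : Rep 12 2300 n g) {l : List ℕ} {m : ℕ}
    (h : (l.head? == some (oneK 12 2300) && ((List.range m).all fun i =>
      compK 12 2300 n (l.getD i 0) == l.getD (i + 1) 0) && compK 12 2300 n (l.getD m 0) == oneK 12 2300) = true) :
    (∀ i ≤ m, Rep 12 2300 (l.getD i 0) (g ^ i)) ∧ g ^ (m + 1) = 1 := by
  simp only [Bool.and_eq_true, List.all_eq_true, List.mem_range, beq_iff_eq] at h
  have hall : ∀ i ≤ m, Rep 12 2300 (l.getD i 0) (g ^ i) := by
    intro i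
    induction i with
    | zero =>
      intro _
      cases l with
      | nil => simp at h
      | cons a l =>
        have h1 : a = oneK 12 2300 := by simpa using h.1.1
        rw [pow_zero, List.getD_cons_zero, h1]
        exact rep_one hw
    | succ i ih =>
      intro hi
      rw [← h.1.2 i (by omega), pow_succ']
      exact rep_comp hw hg (ih (by omega))
  refine ⟨hall, ?_⟩
  have h2 := rep_comp hw hg (hall m le_rfl)
  rw [h.2, ← pow_succ'] at h2
  exact h2.inj (rep_one hw)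

theorem rep_aPow {i : ℕ} (hi : i < 23) : Rep 12 2300 (aPows.getD i 0) (pA ^ i) :=
  (pow_rep rep_A pows.1).1 i (by omega)

theorem rep_nPow {i : ℕ} (hi : i < 11) : Rep 12 2300 (nPows.getD i 0) (pN ^ i) :=
  (pow_rep rep_N pows.2).1 i (by omega)

theorem A_pow : pA ^ 23 = 1 := (pow_rep rep_A pows.1).2

theorem N_pow : pN ^ 11 = 1 := (pow_rep rep_N pows.2).2

theorem orderOf_A : orderOf pA = 23 := by
  haveI : Fact (Nat.Prime 23) := ⟨by norm_num⟩
  refine orderOf_eq_prime A_pow fun e => points.2.2.2.2.1 ?_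
  have h := rep_A ⟨xA, points.1⟩
  rw [e] at h
  exact h

theorem orderOf_N : orderOf pN = 11 := by
  haveI : Fact (Nat.Prime 11) := ⟨by norm_num⟩
  refine orderOf_eq_prime N_pow fun e => points.2.2.2.2.2.1 ?_
  have h := rep_N ⟨xN, points.2.1⟩
  rw [e] at h
  exact h

theorem N_A : pN * pA = pA ^ 4 * pN := by
  have h1 := rep_comp hw rep_N rep_A
  rw [rels.1] at h1
  exact h1.inj (rep_comp hw (rep_aPow (by norm_num)) rep_N)

theorem B_N : pB * pN = pN⁻¹ * pB := by
  have h1 := rep_comp hw rep_B rep_N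
  rw [rels.2] at h1
  rw [h1.inj (rep_comp hw (rep_nPow (i := 10) (by norm_num)) rep_B),
    show pN ^ 10 = pN⁻¹ from eq_inv_of_mul_eq_one_left (by rw [← pow_succ, N_pow])]

theorem cod_comm {c g : P} (hc : c ∈ pairStab cod) (hcg : Commute c g) {t : Fin 2300} {n : ℕ}
    (hn : Rep 12 2300 n g) : cod (c t) (lk 12 n (c t)) = cod t (lk 12 n t) := by
  rw [hn, hn, show g (c t) = c (g t) from (DFunLike.congr_fun hcg.eq t).symm]
  exact hc t (g t)

theorem autA_eq {c : P} (hc : c ∈ pairStab cod) (hca : Commute c pA) (t : Fin 2300) :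
    autA (c t) = autA t := by
  rw [autA, autA]
  congr 1
  refine List.map_congr_left fun k hk => ?_
  exact cod_comm hc (hca.pow_right _) (rep_aPow (by have := List.mem_range.1 hk; omega))

theorem autN_eq {c : P} (hc : c ∈ pairStab cod) (hca : Commute c pN) (t : Fin 2300) :
    autN (c t) = autN t := by
  rw [autN, autN]
  congr 1
  refine List.map_congr_left fun k hk => ?_
  exact cod_comm hc (hca.pow_right _) (rep_nPow (by have := List.mem_range.1 hk; omega))

theorem crossN_eq {c : P} (hc : c ∈ pairStab cod) (hca : Commute c pN) (t u : Fin 2300) :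
    crossN (c t) (c u) = crossN t u := by
  rw [crossN, crossN]
  congr 1
  refine List.map_congr_left fun k hk => ?_
  have hr := rep_nPow (List.mem_range.1 hk)
  rw [hr, hr, show (pN ^ k) (c u) = c ((pN ^ k) u) from (DFunLike.congr_fun (hca.pow_right k).eq u).symm]
  exact hc t _

theorem cent_A_pow {c : P} (hc : c ∈ H) (hca : Commute c pA) : ∃ i : ℕ, c = pA ^ i := by
  have hp := H_spec.2.2 hc
  let x : Fin 2300 := ⟨xA, points.1⟩
  have h := List.all_eq_true.1 cent_A (c x) (List.mem_range.2 (c x).2)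
  simp only [centAK, Bool.or_eq_true, Bool.not_eq_true', beq_eq_false_iff_ne, ne_eq, List.any_eq_true,
    List.mem_range, Nat.beq_eq] at h
  obtain ⟨i, hi, h⟩ := h.resolve_left (fun hne => hne (autA_eq hp hca x))
  have hx : (pA ^ i) x = c x := Fin.ext ((rep_aPow hi x).symm.trans h)
  refine ⟨i, eq_of_agree sigA_ok hp (pow_mem (H_spec.2.2 A_mem) i) fun q hq => ?_⟩
  obtain ⟨k, hk, rfl⟩ := List.mem_map.1 hq
  refine ⟨(pA ^ k) x, (rep_aPow (List.mem_range.1 hk) x).symm, ?_⟩
  calc c ((pA ^ k) x) = (pA ^ k) (c x) := DFunLike.congr_fun (hca.pow_right k).eq x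
    _ = (pA ^ k) ((pA ^ i) x) := by rw [hx]
    _ = (pA ^ i) ((pA ^ k) x) := DFunLike.congr_fun ((Commute.refl pA).pow_pow k i).eq x

theorem orbit_N {c : P} (hc : c ∈ pairStab cod) (hcn : Commute c pN) {x : ℕ} (hx : x < 2300)
    (h : (List.range 2300).all (centNK (autN x) x) = true) :
    ∃ i < 11, (pN ^ i) ⟨x, hx⟩ = c ⟨x, hx⟩ := by
  have h' := List.all_eq_true.1 h (c ⟨x, hx⟩) (List.mem_range.2 (c ⟨x, hx⟩).2)
  simp only [centNK, Bool.or_eq_true, Bool.not_eq_true', beq_eq_false_iff_ne, ne_eq, List.any_eq_true,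
    List.mem_range, Nat.beq_eq] at h'
  obtain ⟨i, hi, h'⟩ := h'.resolve_left (fun hne => hne (autN_eq hc hcn ⟨x, hx⟩))
  exact ⟨i, hi, Fin.ext ((rep_nPow hi ⟨x, hx⟩).symm.trans h')⟩

theorem cent_N_pow {c : P} (hc : c ∈ H) (hcn : Commute c pN) : ∃ i < 11, c = pN ^ i := by
  obtain ⟨lxA, lx, ly, lf, -, -, hf0, hfix⟩ := points
  have hp := H_spec.2.2 hc
  let X : Fin 2300 := ⟨xN, lx⟩
  let Y : Fin 2300 := ⟨yN, ly⟩
  obtain ⟨i, hi, hiX⟩ := orbit_N hp hcn lx cent_X
  refine ⟨i, hi, ?_⟩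
  have hNi : pN ^ i ∈ pairStab cod := pow_mem (H_spec.2.2 N_mem) i
  let d := (pN ^ i)⁻¹ * c
  have hdd : (pN ^ i)⁻¹ * c = d := rfl
  have hd : d ∈ pairStab cod := mul_mem (inv_mem hNi) hp
  have hdn : Commute d pN := (((Commute.refl pN).pow_left i).inv_left).mul_left hcn
  have hdX : d X = X := by
    show (pN ^ i)⁻¹ (c X) = X
    rw [show c X = (pN ^ i) X from hiX.symm, Equiv.Perm.inv_def, Equiv.symm_apply_apply]
  clear_value d
  obtain ⟨j, hj, hjY⟩ := orbit_N hd hdn ly cent_Y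
  have hj0 : j = 0 := by
    have h := List.all_eq_true.1 cross_ok j (List.mem_range.2 hj)
    simp only [Bool.or_eq_true, Nat.beq_eq, Bool.not_eq_true', beq_eq_false_iff_ne, ne_eq] at h
    refine h.resolve_right fun hne => hne ?_
    have h2 := crossN_eq hd hdn X Y
    rw [hdX, ← hjY, ← rep_nPow hj] at h2
    exact h2
  rw [hj0, pow_zero] at hjY
  have hdY : d Y = Y := hjY.symm
  let F : Fin 2300 := ⟨f0, lf⟩
  have hdF : d F = F := by
    have hNF : pN F = F := Fin.ext ((rep_N F).symm.trans hf0)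
    have h := List.all_eq_true.1 hfix (d F) (List.mem_range.2 (d F).2)
    have hfixed : lk 12 kn (d F : ℕ) = (d F : ℕ) := by
      have e := DFunLike.congr_fun hdn.eq F
      rw [Equiv.Perm.mul_apply, Equiv.Perm.mul_apply, hNF] at e
      rw [rep_N (d F), ← e]
    rw [hfixed, beq_self_eq_true, Bool.not_true, Bool.false_or, beq_iff_eq] at h
    exact Fin.ext h
  have move : ∀ (z : Fin 2300) (k : ℕ), d z = z → d ((pN ^ k) z) = (1 : P) ((pN ^ k) z) := fun z k hz => by
    have e := DFunLike.congr_fun (hdn.pow_right k).eq z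
    rw [Equiv.Perm.mul_apply, Equiv.Perm.mul_apply, hz] at e
    rw [e, Equiv.Perm.one_apply]
  have hone : d = 1 := by
    refine eq_of_agree sigN_ok hd (one_mem _) fun q hq => ?_
    simp only [qN, List.mem_append, List.mem_map, List.mem_cons, List.not_mem_nil, or_false] at hq
    rcases hq with ⟨k, hk, rfl⟩ | ⟨k, hk, rfl⟩ | rfl
    · exact ⟨(pN ^ k) X, (rep_nPow (List.mem_range.1 hk) X).symm, move X k hdX⟩
    · exact ⟨(pN ^ k) Y, (rep_nPow (List.mem_range.1 hk) Y).symm, move Y k hdY⟩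
    · exact ⟨F, rfl, hdF⟩
  exact (inv_mul_eq_one.1 (hdd.trans hone)).symm

end CfsgLib.Sporadic.OutCert.Co2
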