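import Cfsg.Agent.Lib.Sporadic.OutCert.Co2.Defs

/-!
Kernel checks of the generators.
-/

set_option autoImplicit false
set_option maxRecDepth 100000
set_option maxHeartbeats 0
set_option Elab.async false

namespace CfsgLib.Sporadic.OutCert.Co2

theorem g_valid : (gTab.all fun g => validK 12 2300 g.1 g.2) = true ∧ gTab.length = 2 ∧ gens.length = 2 := by
  decide +kernel

theorem gens_ok : CfsgLib.SmallGroups.LeechOrbit.gensOK gens [kBase] = true := by decide +kernel

theorem base_valid : validK 12 2300 ka kai = true ∧ validK 12 2300 kn kni = true ∧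
    validK 12 2300 kb kb = true := by decide +kernel

theorem pows : (aPows.head? == some (oneK 12 2300) && ((List.range 22).all fun i =>
      compK 12 2300 ka (aPows.getD i 0) == aPows.getD (i + 1) 0) &&
      compK 12 2300 ka (aPows.getD 22 0) == oneK 12 2300) = true ∧
    (nPows.head? == some (oneK 12 2300) && ((List.range 10).all fun i =>
      compK 12 2300 kn (nPows.getD i 0) == nPows.getD (i + 1) 0) &&
      compK 12 2300 kn (nPows.getD 10 0) == oneK 12 2300) = true := by decide +kernel

theorem rels : compK 12 2300 kn ka = compK 12 2300 (aPows.getD 4 0) kn ∧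
    compK 12 2300 kb kn = compK 12 2300 (nPows.getD 10 0) kb := by decide +kernel

theorem points : xA < 2300 ∧ xN < 2300 ∧ yN < 2300 ∧ f0 < 2300 ∧ lk 12 ka xA ≠ xA ∧ lk 12 kn xN ≠ xN ∧
    lk 12 kn f0 = f0 ∧ ((List.range 2300).all fun y => !(lk 12 kn y == y) || y == f0) = true := by
  decide +kernel

theorem b_tests : (tests.all fun t => testK 12 2300 (testWord 1 0 t.1) t.2) = true ∧ testsK = true := by
  decide +kernel

theorem seed_ok : CfsgLib.SmallGroups.LeechReach.okGood (CfsgLib.SmallGroups.LeechOrbit.dig (vAt 0) 23)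
    (CfsgLib.SmallGroups.LeechOrbit.Pk (vAt 0)) = true ∧
    CfsgLib.SmallGroups.LeechLists.dotK (vAt 0) (vAt 0) = 32 ∧
    CfsgLib.SmallGroups.LeechLists.dotK kBase (vAt 0) = -16 := by decide +kernel

theorem reach_ok : (List.range 2300).all reachK = true := by decide +kernel

end CfsgLib.Sporadic.OutCert.Co2
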