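import Cfsg.Agent.Lib.Sporadic.OutCert.Co2.Defs

/-!
The spread-out numbers and the classes of two listed pairs.
-/

set_option autoImplicit false
set_option maxRecDepth 100000
set_option maxHeartbeats 0
set_option Elab.async false

namespace CfsgLib.Sporadic.OutCert.Co2

open CfsgLib.SmallGroups.LeechLists

theorem dotTab_ok : (List.range 2300).all dotTabK = true := by decide +kernel

theorem classN_eq (S T : ℕ) : classN S T = classOf ((S : ℤ) - (T : ℤ) + 1536) := by
  simp only [classN, classOf, beq_iff_eq, Bool.or_eq_true, Nat.beq_eq]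
  split_ifs <;> first | rfl | omega

attribute [local irreducible] sAt rAt tAt vAt

/-- The class of two listed pairs comes from the inner product of their vectors. -/
theorem cod_eq_dotK {i j : ℕ} (hi : i < 2300) (hj : j < 2300) :
    cod i j = classOf (dotK (vAt i) (vAt j)) := by
  have h1 := List.all_eq_true.1 dotTab_ok i (List.mem_range.2 hi)
  have h2 := List.all_eq_true.1 dotTab_ok j (List.mem_range.2 hj)
  simp only [dotTabK, Bool.and_eq_true, Nat.beq_eq] at h1 h2
  rw [DotTab.dotK_eq_middle, cod, h1.1, h1.2.2, h2.2.1, h2.2.2, classN_eq]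
  congr 2

end CfsgLib.Sporadic.OutCert.Co2
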