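import Cfsg.Agent.Lib.Sporadic.OutCert.Co2.Defs

/-!
The listed pairs.
-/

set_option autoImplicit false
set_option maxRecDepth 100000
set_option maxHeartbeats 0
set_option Elab.async false

namespace CfsgLib.Sporadic.OutCert.Co2

theorem pair_ok : (List.range 2300).all pairK = true := by decide +kernel

theorem key_ok : (List.range 2300).all keyK = true := by decide +kernel

end CfsgLib.Sporadic.OutCert.Co2
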