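import Cfsg.Agent.Lib.Sporadic.OutCert.Co2.Defs

/-!
A word moves the listed pairs as the table says.
-/

set_option autoImplicit false
set_option maxRecDepth 100000
set_option maxHeartbeats 0
set_option Elab.async false

namespace CfsgLib.Sporadic.OutCert.Co2

theorem run_0_0 : (List.range' 0 230).all (runK 0) = true := by decide +kernel

theorem run_0_1 : (List.range' 230 230).all (runK 0) = true := by decide +kernel

theorem run_0_2 : (List.range' 460 230).all (runK 0) = true := by decide +kernel

theorem run_0_3 : (List.range' 690 230).all (runK 0) = true := by decide +kernel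

theorem run_0_4 : (List.range' 920 230).all (runK 0) = true := by decide +kernel

theorem run_0_5 : (List.range' 1150 230).all (runK 0) = true := by decide +kernel

theorem run_0_6 : (List.range' 1380 230).all (runK 0) = true := by decide +kernel

theorem run_0_7 : (List.range' 1610 230).all (runK 0) = true := by decide +kernel

theorem run_0_8 : (List.range' 1840 230).all (runK 0) = true := by decide +kernel

theorem run_0_9 : (List.range' 2070 230).all (runK 0) = true := by decide +kernel

theorem run_0 : (List.range 2300).all (runK 0) = true := by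
  rw [List.all_eq_true]
  intro i hi
  rw [List.mem_range] at hi
  by_cases h0 : i < 230
  · exact List.all_eq_true.1 run_0_0 i (List.mem_range'_1.2 ⟨by omega, by omega⟩)
  by_cases h1 : i < 460
  · exact List.all_eq_true.1 run_0_1 i (List.mem_range'_1.2 ⟨by omega, by omega⟩)
  by_cases h2 : i < 690
  · exact List.all_eq_true.1 run_0_2 i (List.mem_range'_1.2 ⟨by omega, by omega⟩)
  by_cases h3 : i < 920
  · exact List.all_eq_true.1 run_0_3 i (List.mem_range'_1.2 ⟨by omega, by omega⟩)
  by_cases h4 : i < 1150
  · exact List.all_eq_true.1 run_0_4 i (List.mem_range'_1.2 ⟨by omega, by omega⟩)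
  by_cases h5 : i < 1380
  · exact List.all_eq_true.1 run_0_5 i (List.mem_range'_1.2 ⟨by omega, by omega⟩)
  by_cases h6 : i < 1610
  · exact List.all_eq_true.1 run_0_6 i (List.mem_range'_1.2 ⟨by omega, by omega⟩)
  by_cases h7 : i < 1840
  · exact List.all_eq_true.1 run_0_7 i (List.mem_range'_1.2 ⟨by omega, by omega⟩)
  by_cases h8 : i < 2070
  · exact List.all_eq_true.1 run_0_8 i (List.mem_range'_1.2 ⟨by omega, by omega⟩)
  by_cases h9 : i < 2300
  · exact List.all_eq_true.1 run_0_9 i (List.mem_range'_1.2 ⟨by omega, by omega⟩)
  omega

end CfsgLib.Sporadic.OutCert.Co2
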