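import Cfsg.Agent.Lib.Sporadic.OutCert.GraphCert
import Cfsg.Agent.Lib.Sporadic.OutCert.Co2.Data
import Cfsg.Agent.Lib.Sporadic.OutCert.Co2.DataVec
import Cfsg.Agent.Lib.Sporadic.OutCert.Co2.DataSlpG
import Cfsg.Agent.Lib.Sporadic.OutCert.Co2.DataSlpH
import Cfsg.Agent.Lib.Sporadic.OutCert.Co2.DataSig
import Cfsg.Agent.Lib.Sporadic.OutCert.Co2.DataDot
import Cfsg.Agent.Lib.Sporadic.OutCert.DotTab
import Cfsg.Agent.Lib.SmallGroups.LeechLists

/-!
The checks on the data for the automorphisms of the second Conway group.
-/

set_option autoImplicit false
set_option maxRecDepth 100000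
set_option maxHeartbeats 0

namespace CfsgLib.Sporadic.OutCert.Co2

open CfsgLib.SmallGroups CfsgLib.SmallGroups.LeechOrbit CfsgLib.SmallGroups.LeechLists

/-- A word moves the listed pairs as a table says. -/
noncomputable def runK (m i : ℕ) : Bool :=
  match LeechOrbit.run (gens.getD m []) (vAt i) with
  | none => false
  | some k => k == vAt (lk 12 (gTab.getD m (0, 0)).1 i) || k == wAt (lk 12 (gTab.getD m (0, 0)).1 i)

/-- The base vector. -/
def kBase : ℕ := 62062060636173731114942761100

/-- The two numbers of a pair give the two vectors of the pair. -/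
def pairK (i : ℕ) : Bool :=
  ((List.range 24).all fun q => dig (vAt i) q + dig (wAt i) q + dig kBase q == 0) &&
    (encK (dig (vAt i)) == vAt i && encK (dig (wAt i)) == wAt i)

/-- The tree finds each pair from its vectors. -/
def keyK (i : ℕ) : Bool :=
  (match keyTree.get (vAt i) with
    | none => false
    | some v => Nat.beq v.1 i && Nat.beq v.2.1 0) &&
  (match keyTree.get (wAt i) with
    | none => false
    | some v => Nat.beq v.1 i && Nat.beq v.2.1 1)

/-- A pair is reached from an earlier one. -/
noncomputable def reachK (i : ℕ) : Bool :=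
  let e := vOrbAt i
  i == 0 || (Nat.blt e.1 i && (Nat.blt e.2 2 && lk 12 (gTab.getD e.2 (0, 0)).1 e.1 == i))

/-- The class of two pairs, from an inner product of their vectors. -/
def classOf (d : ℤ) : ℕ := if d == 8 then 0 else if d == 0 || d == 16 then 1 else 2

/-- The class, from the inner product of the digits and eight times the sum of the digits. -/
def classN (S T : ℕ) : ℕ :=
  if Nat.beq (S + 1536) (T + 8) then 0 else if Nat.beq (S + 1536) T || Nat.beq (S + 1536) (T + 16) then 1 else 2

/-- The class of two listed pairs. -/
def cod (i j : ℕ) : ℕ := classN (sAt i * rAt j / 65536 ^ 23 % 65536) (8 * (tAt i + tAt j))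

/-- The spread-out numbers belong to the listed vectors. -/
def dotTabK (i : ℕ) : Bool :=
  Nat.beq (sAt i) (DotTab.spread (vAt i)) &&
    (Nat.beq (rAt i) (DotTab.spreadRev (vAt i)) && Nat.beq (tAt i) (DotTab.dsum (vAt i)))

/-- The pattern of a point against its images under the powers of `a`. -/
noncomputable def autA (t : ℕ) : ℕ :=
  pk 2 ((List.range 22).map fun k => cod t (lk 12 (aPows.getD (k + 1) 0) t))

/-- The pattern of a point against its images under the powers of `n`. -/
noncomputable def autN (t : ℕ) : ℕ :=
  pk 2 ((List.range 10).map fun k => cod t (lk 12 (nPows.getD (k + 1) 0) t))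

/-- The pattern of two points against each other under the powers of `n`. -/
noncomputable def crossN (t u : ℕ) : ℕ :=
  pk 2 ((List.range 11).map fun k => cod t (lk 12 (nPows.getD k 0) u))

/-- The separating points for `a`. -/
noncomputable def qA : List ℕ := (List.range 23).map fun k => lk 12 (aPows.getD k 0) xA

/-- The separating points for `n`. -/
noncomputable def qN : List ℕ :=
  ((List.range 11).map fun k => lk 12 (nPows.getD k 0) xN) ++
    (((List.range 11).map fun k => lk 12 (nPows.getD k 0) yN) ++ [f0])

/-- A point with the pattern of the chosen point of `a` is in its orbit. -/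
noncomputable def centAK (target t : ℕ) : Bool :=
  !(autA t == target) || (List.range 23).any fun i => Nat.beq (lk 12 (aPows.getD i 0) xA) t

/-- A point with the pattern of a chosen point of `n` is in its orbit. -/
noncomputable def centNK (target x t : ℕ) : Bool :=
  !(autN t == target) || (List.range 11).any fun i => Nat.beq (lk 12 (nPows.getD i 0) x) t

/-- The factors of a test, the involution replaced by a candidate. -/
noncomputable def testWord (m j : ℕ) (es : List (ℕ × ℕ)) : List ℕ :=
  es.flatMap fun e => [aPows.getD (e.1 * m % 23) 0, nPows.getD (e.2 % 11) 0, kb, nPows.getD j 0]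

/-- The tests leave only the involution itself. -/
noncomputable def testsK : Bool :=
  [1, 5].all fun m => (List.range 11).all fun j =>
    (Nat.beq m 1 && Nat.beq j 0) || tests.any fun t => !(testK 12 2300 (testWord m j t.1) t.2)

/-- The levels with the elements filled in. -/
def levels : List Level :=
  levelData.map fun L => ⟨L.1, L.2.1.map (slpVal [ka, kn, kb] slpH), L.2.2⟩

end CfsgLib.Sporadic.OutCert.Co2
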