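import Cfsg.Agent.Lib.Sporadic.OutCert.Co2.Check
import Cfsg.Agent.Lib.Sporadic.OutCert.Co2.CheckPairs
import Cfsg.Agent.Lib.Sporadic.OutCert.Co2.CheckRun0
import Cfsg.Agent.Lib.Sporadic.OutCert.Co2.CheckRun1
import Cfsg.Agent.Lib.Sporadic.OutCert.Co2.CheckDot
import Cfsg.Agent.Lib.SmallGroups.LeechCo2
import Cfsg.Agent.Lib.SmallGroups.LeechPairs
import Cfsg.Agent.Lib.SmallGroups.LeechCensus
import Cfsg.Prelude.Def_Spor_Conway

/-!
The second Conway group acting on the 2300 pairs of minimal vectors completing the base vector to a triangle.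
-/

set_option autoImplicit false
set_option maxRecDepth 10000

namespace CfsgLib.Sporadic.OutCert.Co2

open Cfsg CfsgLib.SmallGroups CfsgLib.SmallGroups.Golay CfsgLib.SmallGroups.LeechOrbit
  CfsgLib.SmallGroups.LeechEnum CfsgLib.SmallGroups.LeechLists CfsgLib.SmallGroups.LeechVectorStab
  CfsgLib.SmallGroups.LeechPairs

attribute [local irreducible] lk pkF allF compK ka kai kn kni kb gTab vAt wAt keyTree vOrbAt gens

/-- Permutations of the pairs. -/
abbrev P : Type := Equiv.Perm (Fin 2300)

theorem hw : 2300 ≤ 2 ^ 12 := by norm_num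

/-- The stabiliser of the base vector. -/
noncomputable abbrev G0 : Subgroup Co0 := MulAction.stabilizer Co0 vV

theorem norm_base : sqNorm (vV : GolayPt → ℤ) = 32 := by
  rw [coe_vV, sqNorm_eq, dotK_eq]; exact key_facts.2.2.2

theorem G0_spec : Nonempty (Cfsg.Spor.Co2 ≃* G0) ∧ Nat.card G0 = 42305421312000 ∧ IsSimpleGroup G0 := by
  have hU : Spor.leechU = vV := Subtype.ext (funext fun q => by
    show Spor.vecU q = _
    rw [coe_vV]; revert q; decide +kernel)
  have mem : ∀ g : Equiv.Perm leechLattice, g ∈ Spor.Co2 ↔ g ∈ Co0 ∧ g vV = vV := by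
    intro g
    simp only [Spor.Co2, Subgroup.mem_inf, MulAction.mem_stabilizer_iff, Equiv.Perm.smul_def, hU]
  obtain ⟨g, hg⟩ := LeechTransitive.transitive32 v32 vV norm_v32 norm_base
  let e := MulAction.stabilizerEquivStabilizer hg.symm
  refine ⟨⟨{
    toFun := fun g => ⟨⟨g.1, ((mem g.1).1 g.2).1⟩, ((mem g.1).1 g.2).2⟩
    invFun := fun g => ⟨g.1.1, (mem _).2 ⟨g.1.2, g.2⟩⟩
    left_inv := fun _ => rfl
    right_inv := fun _ => rfl
    map_mul' := fun _ _ => rfl }⟩, ?_, ?_⟩
  · rw [← Nat.card_congr e.toEquiv, LeechCo2.card_stab]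
  · have := LeechCo2.isSimpleGroup_stab
    exact MathieuSimple.isSimpleGroup_congr' e

theorem run_ok {m : ℕ} (hm : m < 2) (i : Fin 2300) : runK m i = true := by
  match m, hm with
  | 0, _ => exact List.all_eq_true.1 run_0 i (List.mem_range.2 i.2)
  | 1, _ => exact List.all_eq_true.1 run_1 i (List.mem_range.2 i.2)

theorem word_spec {m : ℕ} (hm : m < 2) : ∃ g : G0,
    ∀ k k', LeechOrbit.run (gens.getD m []) k = some k' → ∀ x : leechLattice,
      (x : GolayPt → ℤ) = Pk k → (((g : Co0) • x : leechLattice) : GolayPt → ℤ) = Pk k' := by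
  have hlen : m < gens.length := by rw [g_valid.2.2]; exact hm
  have hw' := List.all_eq_true.1 gens_ok _ (List.getElem_mem hlen)
  simp only [Bool.and_eq_true, List.all_eq_true, beq_iff_eq] at hw'
  obtain ⟨g, hg⟩ := run_sound (List.all_eq_true.2 hw'.1)
  have g1 : g • vV = vV := Subtype.ext ((hg kV kV (hw'.2 _ (by simp [kBase, kV])) vV coe_vV).trans coe_vV.symm)
  exact ⟨⟨g, g1⟩, by rw [List.getD_eq_getElem _ _ hlen]; exact hg⟩

theorem pair_spec (i : Fin 2300) : Pk (wAt i) = -Pk (vAt i) - Pk kV ∧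
    encK (dig (vAt i)) = vAt i ∧ encK (dig (wAt i)) = wAt i := by
  have h := List.all_eq_true.1 pair_ok i (List.mem_range.2 i.2)
  simp only [pairK, Bool.and_eq_true, List.all_eq_true, beq_iff_eq, List.mem_range] at h
  refine ⟨funext fun q => ?_, h.2.1, h.2.2⟩
  have := h.1 (idx q) (idx_lt q)
  show dig _ (idx q) = -dig _ (idx q) - dig kBase (idx q)
  omega

theorem coe_neg_sub {x : leechLattice} {n : ℕ} (hx : (x : GolayPt → ℤ) = Pk n) :
    ((-x - vV : leechLattice) : GolayPt → ℤ) = -Pk n - Pk kV := by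
  rw [AddSubgroup.coe_sub, AddSubgroup.coe_neg, hx, coe_vV]

theorem smul_neg_sub (g : G0) (x : leechLattice) :
    (g : Co0) • (-x - vV) = -((g : Co0) • x) - vV := by
  show AddMonoidHom.mk' ((g : Co0) : Equiv.Perm leechLattice) (g : Co0).2.1 (-x - vV) = _
  rw [map_sub, map_neg]
  exact congrArg (fun z => -((g : Co0) • x) - z) g.2

/-- The two vectors of a pair are minimal and make the required angle with the base vector. -/
def good (x : leechLattice) : Prop :=
  sqNorm (x : GolayPt → ℤ) = 32 ∧ dotInt (vV : GolayPt → ℤ) (x : GolayPt → ℤ) = -16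

theorem good_smul (g : G0) {x : leechLattice} (h : good x) : good ((g : Co0) • x) := by
  refine ⟨(norm_smul _ x).trans h.1, ?_⟩
  have h1 := dot_smul (g : Co0) vV x
  rw [show (g : Co0) • vV = vV from g.2] at h1
  exact h1.trans h.2

theorem good_partner {x : leechLattice} (h : good x) : good (-x - vV) := by
  obtain ⟨h1, h2⟩ := h
  have hn := norm_base
  have key : ∀ a b : GolayPt → ℤ, dotInt (-a - b) (-a - b) = dotInt a a + 2 * dotInt b a + dotInt b b ∧
      dotInt b (-a - b) = -dotInt b a - dotInt b b := by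
    intro a b
    simp only [dotInt, Pi.sub_apply, Pi.neg_apply, ← Finset.sum_neg_distrib, ← Finset.sum_sub_distrib,
      Finset.mul_sum, ← Finset.sum_add_distrib]
    exact ⟨Finset.sum_congr rfl fun _ _ => by ring, Finset.sum_congr rfl fun _ _ => by ring⟩
  obtain ⟨k1, k2⟩ := key (x : GolayPt → ℤ) (vV : GolayPt → ℤ)
  rw [sqNorm_eq] at h1 hn
  constructor
  · rw [sqNorm_eq, AddSubgroup.coe_sub, AddSubgroup.coe_neg, k1, h1, h2, hn]; norm_num
  · rw [AddSubgroup.coe_sub, AddSubgroup.coe_neg, k2, h2, hn]; norm_num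

theorem exists_vec : ∀ i : Fin 2300,
    ∃ x : leechLattice, (x : GolayPt → ℤ) = Pk (vAt i) ∧ good x := by
  rintro ⟨i, hi⟩
  induction i using Nat.strong_induction_on with
  | _ i ih =>
    by_cases h0 : i = 0
    · subst h0
      refine ⟨⟨_, LeechBasic.mem_lattice.2 (LeechReach.good_of_ok seed_ok.1)⟩, rfl, ?_, ?_⟩
      · rw [sqNorm_eq, dotK_eq]; exact seed_ok.2.1
      · rw [coe_vV, dotK_eq]; exact seed_ok.2.2
    have h := List.all_eq_true.1 reach_ok i (List.mem_range.2 hi)
    simp only [reachK, Bool.or_eq_true, beq_iff_eq, h0, false_or, Bool.and_eq_true, Nat.blt_eq] at h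
    obtain ⟨hlt, hm, himg⟩ := h
    generalize vOrbAt i = e at hlt hm himg
    obtain ⟨x, hx, hgx⟩ := ih _ hlt (hlt.trans hi)
    obtain ⟨g, hg⟩ := word_spec hm
    have hr := run_ok hm ⟨e.1, hlt.trans hi⟩
    simp only [runK, himg] at hr
    cases hrun : LeechOrbit.run (gens.getD e.2 []) (vAt e.1) with
    | none => rw [hrun] at hr; exact Bool.noConfusion hr
    | some k =>
      simp only [hrun, Bool.or_eq_true, beq_iff_eq] at hr
      have hmove := hg _ _ hrun x hx
      rcases hr with rfl | rfl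
      · exact ⟨_, hmove, good_smul g hgx⟩
      · refine ⟨_, ?_, good_partner (good_smul g hgx)⟩
        rw [coe_neg_sub hmove, (pair_spec ⟨i, hi⟩).1]
        abel

/-- The vectors. -/
abbrev W : Type := {x : leechLattice // good x}

theorem card_W : Nat.card W = 4600 := by
  have h := (LeechCensus.census _ vV.2 norm_base).1
  rw [LeechCensus.as_image] at h
  rw [← h, ← Nat.card_coe_set_eq]
  rfl

instance finite_W : Finite W := Nat.finite_of_card_ne_zero (by rw [card_W]; norm_num)

/-- The first vector of a pair. -/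
noncomputable def vec0 (i : Fin 2300) : W := ⟨(exists_vec i).choose, (exists_vec i).choose_spec.2⟩

theorem coe_vec0 (i : Fin 2300) : ((vec0 i : leechLattice) : GolayPt → ℤ) = Pk (vAt i) :=
  (exists_vec i).choose_spec.1

/-- The vector with a given index. -/
noncomputable def vecAt (p : Fin 2300 × Bool) : W :=
  if p.2 then ⟨-(vec0 p.1 : leechLattice) - vV, good_partner (vec0 p.1).2⟩ else vec0 p.1

theorem coe_vecAt (i : Fin 2300) (s : Bool) :
    ((vecAt (i, s) : leechLattice) : GolayPt → ℤ) = Pk (if s then wAt i else vAt i) := by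
  cases s
  · exact coe_vec0 i
  · rw [if_pos rfl, (pair_spec i).1, ← coe_neg_sub (coe_vec0 i)]
    rfl

theorem Pk_inj_of_enc {n m : ℕ} (hn : encK (dig n) = n) (hm : encK (dig m) = m) (e : Pk n = Pk m) :
    n = m := by
  rw [← hn, ← hm]
  simp only [encK]
  refine List.foldr_ext (l := List.range 24) _ _ _ fun i hi acc => ?_
  have := congrFun e (pt i)
  simp only [Pk, idx_pt (List.mem_range.1 hi)] at this
  rw [this]

theorem vecAt_injective : Function.Injective vecAt := by
  rintro ⟨i, s⟩ ⟨j, t⟩ e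
  have h1 := congrArg (fun x : W => ((x : leechLattice) : GolayPt → ℤ)) e
  simp only [coe_vecAt] at h1
  have enc : ∀ (i : Fin 2300) (s : Bool), encK (dig (if s then wAt i else vAt i)) =
      if s then wAt i else vAt i := by
    intro i s; cases s
    · exact (pair_spec i).2.1
    · exact (pair_spec i).2.2
  have h2 := Pk_inj_of_enc (enc i s) (enc j t) h1
  have look : ∀ (i : Fin 2300) (s : Bool), ∃ d,
      keyTree.get (if s then wAt i else vAt i) = some ((i : ℕ), (if s then 1 else 0), d) := by
    intro i s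
    have h := List.all_eq_true.1 key_ok i (List.mem_range.2 i.2)
    simp only [keyK, Bool.and_eq_true] at h
    cases s
    · cases hv : keyTree.get (vAt i) with
      | none => simp [hv] at h
      | some v =>
        simp only [hv, Bool.and_eq_true, Nat.beq_eq] at h
        refine ⟨v.2.2, ?_⟩
        simp only [Bool.false_eq_true, if_false]
        exact hv.trans (congrArg some (Prod.ext h.1.1 (Prod.ext h.1.2 rfl)))
    · cases hv : keyTree.get (wAt i) with
      | none => simp [hv] at h
      | some v =>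
        simp only [hv, Bool.and_eq_true, Nat.beq_eq] at h
        refine ⟨v.2.2, ?_⟩
        simp only [if_true]
        exact hv.trans (congrArg some (Prod.ext h.2.1 (Prod.ext h.2.2 rfl)))
  obtain ⟨d, hd⟩ := look i s
  obtain ⟨d', hd'⟩ := look j t
  rw [h2, hd', Option.some.injEq, Prod.mk.injEq, Prod.mk.injEq] at hd
  obtain ⟨hij, hst, -⟩ := hd
  have hi : i = j := Fin.ext hij.symm
  subst hi
  cases s <;> cases t <;> simp_all

/-- The numbering of the vectors. -/
noncomputable def vecEquiv : Fin 2300 × Bool ≃ W :=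
  Equiv.ofBijective vecAt (vecAt_injective.bijective_of_nat_card_le (by
    rw [card_W, Nat.card_prod, Nat.card_fin, Nat.card_eq_fintype_card, Fintype.card_bool]))

/-- The pair of a vector. -/
noncomputable def pairOf (x : W) : Fin 2300 := (vecEquiv.symm x).1

theorem pairOf_vecAt (i : Fin 2300) (s : Bool) : pairOf (vecAt (i, s)) = i :=
  congrArg Prod.fst (vecEquiv.symm_apply_apply (i, s))

/-- The action on vectors. -/
noncomputable def move (g : G0) (x : W) : W := ⟨(g : Co0) • (x : leechLattice), good_smul g x.2⟩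

theorem pairOf_move (g : G0) (x : W) : pairOf (move g x) = pairOf (move g (vec0 (pairOf x))) := by
  obtain ⟨⟨i, s⟩, rfl⟩ := vecEquiv.surjective x
  rw [show pairOf (vecEquiv (i, s)) = i from pairOf_vecAt i s]
  cases s
  · rfl
  obtain ⟨⟨j, t⟩, hj⟩ := vecEquiv.surjective (move g (vec0 i))
  have h2 : move g (vecEquiv (i, true)) = vecAt (j, !t) := by
    refine Subtype.ext ?_
    show (g : Co0) • (-(vec0 i : leechLattice) - vV) = _
    rw [smul_neg_sub]
    have hj' : (vecAt (j, t) : leechLattice) = (g : Co0) • (vec0 i : leechLattice) := congrArg Subtype.val hj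
    rw [← hj']
    cases t
    · rfl
    · show -(-(vec0 j : leechLattice) - vV) - vV = (vec0 j : leechLattice)
      abel
  rw [h2, pairOf_vecAt, ← hj]
  exact (pairOf_vecAt j t).symm

/-- The action on the pairs, as a map. -/
noncomputable def pmap (g : G0) (i : Fin 2300) : Fin 2300 := pairOf (move g (vec0 i))

theorem pmap_mul (g h : G0) (i : Fin 2300) : pmap (g * h) i = pmap g (pmap h i) := by
  have e : move (g * h) (vec0 i) = move g (move h (vec0 i)) :=
    Subtype.ext (mul_smul (g : Co0) (h : Co0) (vec0 i : leechLattice))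
  rw [pmap, e, pairOf_move]
  rfl

theorem pmap_one (i : Fin 2300) : pmap 1 i = i := by
  have e : move 1 (vec0 i) = vecAt (i, false) := Subtype.ext (one_smul Co0 (vec0 i : leechLattice))
  rw [pmap, e, pairOf_vecAt]

/-- The action on the pairs. -/
noncomputable def psi : G0 →* P :=
  MonoidHom.mk' (fun g =>
    { toFun := pmap g
      invFun := pmap g⁻¹
      left_inv := fun i => by rw [← pmap_mul, inv_mul_cancel, pmap_one]
      right_inv := fun i => by rw [← pmap_mul, mul_inv_cancel, pmap_one] })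
    fun g h => Equiv.ext (pmap_mul g h)

theorem cod_eq (i j : Fin 2300) :
    cod i j = classOf (dotInt ((vec0 i : leechLattice) : GolayPt → ℤ) (vec0 j : leechLattice)) := by
  rw [coe_vec0, coe_vec0, dotK_eq, cod_eq_dotK i.2 j.2]

theorem classOf_flip (d : ℤ) : classOf (16 - d) = classOf d := by
  simp only [classOf, beq_iff_eq, Bool.or_eq_true]
  split_ifs <;> omega

theorem dot_partner {x y : leechLattice} (hx : good x) :
    classOf (dotInt (x : GolayPt → ℤ) ((-y - vV : leechLattice) : GolayPt → ℤ)) =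
        classOf (dotInt (x : GolayPt → ℤ) (y : GolayPt → ℤ)) ∧
      classOf (dotInt ((-y - vV : leechLattice) : GolayPt → ℤ) (x : GolayPt → ℤ)) =
        classOf (dotInt (y : GolayPt → ℤ) (x : GolayPt → ℤ)) := by
  have key : ∀ a b c : GolayPt → ℤ, dotInt a (-b - c) = -dotInt c a - dotInt a b ∧
      dotInt (-b - c) a = -dotInt c a - dotInt b a := by
    intro a b c
    simp only [dotInt, Pi.sub_apply, Pi.neg_apply, ← Finset.sum_neg_distrib, ← Finset.sum_sub_distrib]
    exact ⟨Finset.sum_congr rfl fun _ _ => by ring, Finset.sum_congr rfl fun _ _ => by ring⟩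
  obtain ⟨k1, k2⟩ := key (x : GolayPt → ℤ) (y : GolayPt → ℤ) (vV : GolayPt → ℤ)
  rw [AddSubgroup.coe_sub, AddSubgroup.coe_neg, k1, k2, hx.2, neg_neg, classOf_flip, classOf_flip]
  exact ⟨rfl, rfl⟩

theorem dot_vecAt (i j : Fin 2300) (s t : Bool) :
    classOf (dotInt ((vecAt (i, s) : leechLattice) : GolayPt → ℤ) (vecAt (j, t) : leechLattice)) =
      cod i j := by
  rw [cod_eq]
  cases s <;> cases t
  · rfl
  · exact (dot_partner (vec0 i).2).1
  · exact (dot_partner (vec0 j).2).2
  · exact ((dot_partner (vecAt (i, true)).2).1).trans (dot_partner (vec0 j).2).2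

theorem range_le_pairStab : psi.range ≤ pairStab cod := by
  rintro _ ⟨g, rfl⟩ i j
  obtain ⟨⟨a, s⟩, ha⟩ := vecEquiv.surjective (move g (vec0 i))
  obtain ⟨⟨b, t⟩, hb⟩ := vecEquiv.surjective (move g (vec0 j))
  show cod (pmap g i) (pmap g j) = _
  rw [pmap, pmap, ← ha, ← hb, show vecEquiv (a, s) = vecAt (a, s) from rfl,
    show vecEquiv (b, t) = vecAt (b, t) from rfl, pairOf_vecAt, pairOf_vecAt, ← dot_vecAt a b s t, cod_eq]
  rw [show (vecAt (a, s) : leechLattice) = (g : Co0) • (vec0 i : leechLattice) from congrArg Subtype.val ha,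
    show (vecAt (b, t) : leechLattice) = (g : Co0) • (vec0 j : leechLattice) from congrArg Subtype.val hb,
    dot_smul]

theorem tab_mem_range {m : ℕ} (hm : m < 2) : ∃ g : G0, Rep 12 2300 (gTab.getD m (0, 0)).1 (psi g) := by
  obtain ⟨g, hg⟩ := word_spec hm
  refine ⟨g, fun i => ?_⟩
  have hgt : m < gTab.length := by rw [g_valid.2.1]; exact hm
  have hv := List.all_eq_true.1 g_valid.1 _ (List.getElem_mem hgt)
  have hlt := (valid_at hv i).1
  rw [← List.getD_eq_getElem _ (0, 0) hgt] at hlt
  have hr := run_ok hm i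
  simp only [runK] at hr
  show _ = ((pmap g i : Fin 2300) : ℕ)
  generalize (gTab.getD m (0, 0)).1 = n at hlt hr ⊢
  cases hrun : LeechOrbit.run (gens.getD m []) (vAt i) with
  | none => rw [hrun] at hr; exact Bool.noConfusion hr
  | some k =>
    simp only [hrun, Bool.or_eq_true, beq_iff_eq] at hr
    have hmove := hg _ _ hrun (vec0 i : leechLattice) (coe_vec0 i)
    obtain ⟨s, hs⟩ : ∃ s : Bool, k = if s then wAt (lk 12 n i) else vAt (lk 12 n i) := by
      rcases hr with hr | hr
      · exact ⟨false, hr⟩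
      · exact ⟨true, hr⟩
    have e : move g (vec0 i) = vecAt (⟨lk 12 n i, hlt⟩, s) := by
      refine Subtype.ext (Subtype.ext ?_)
      rw [coe_vecAt, ← hs]
      exact hmove
    rw [pmap, e, pairOf_vecAt]

end CfsgLib.Sporadic.OutCert.Co2
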