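import Cfsg.Agent.Lib.Sporadic.OutCert.Co2.Cent
import Cfsg.Agent.Lib.Sporadic.OutCert.Out

/-!
Every automorphism of the second Conway group is inner.
-/

set_option autoImplicit false
set_option maxRecDepth 10000

namespace CfsgLib.Sporadic.OutCert.Co2

open Cfsg

attribute [local irreducible] lk pkF allF compK cod ka kai kn kni kb aPows nPows tests

/-- The element of order 23 in the group. -/
noncomputable def hA : H := ⟨pA, A_mem⟩

/-- The element of order 11 in the group. -/
noncomputable def hN : H := ⟨pN, N_mem⟩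

/-- The involution in the group. -/
noncomputable def hB : H := ⟨pB, B_mem⟩

theorem orderOf_hA : orderOf hA = 23 := by
  rw [← orderOf_injective H.subtype Subtype.coe_injective]
  exact orderOf_A

theorem hA_pow : hA ^ 23 = 1 := Subtype.ext A_pow

theorem hN_hA : hN * hA = hA ^ 4 * hN := Subtype.ext N_A

theorem conj_hN (k m : ℕ) : hN ^ k * hA ^ m * (hN ^ k)⁻¹ = hA ^ (m * 4 ^ k) := by
  have h1 : MulAut.conj hN hA = hA ^ 4 := by
    rw [MulAut.conj_apply, hN_hA, mul_inv_cancel_right]
  induction k generalizing m with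
  | zero => simp
  | succ k ih =>
    calc hN ^ (k + 1) * hA ^ m * (hN ^ (k + 1))⁻¹
        = MulAut.conj hN (hN ^ k * hA ^ m * (hN ^ k)⁻¹) := by
          rw [MulAut.conj_apply, pow_succ']; group
      _ = hA ^ (m * 4 ^ (k + 1)) := by
          rw [ih, map_pow, h1, ← pow_mul]
          congr 1
          ring

theorem exponents : ∀ j < 23, 0 < j → ∃ k < 11, j * 4 ^ k % 23 = 1 ∨ j * 4 ^ k % 23 = 5 := by decide +kernel

theorem cent_hA {c : H} (h : Commute c hA) : ∃ i : ℕ, c = hA ^ i := by
  obtain ⟨i, e⟩ := cent_A_pow c.2 (congrArg Subtype.val h.eq)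
  exact ⟨i, Subtype.ext e⟩

theorem conj_l (l i : ℕ) : hA ^ l * (hN * hA ^ i) * (hA ^ l)⁻¹ = hN * hA ^ (6 * l + i) * (hA ^ l)⁻¹ := by
  have h : hA * hN = hN * hA ^ 6 := by
    have h24 : hA = hA ^ 24 := by rw [pow_succ, hA_pow, one_mul]
    have hp : ∀ k : ℕ, hN * hA ^ k = hA ^ (k * 4) * hN := fun k => by
      have h1 := conj_hN 1 k
      rw [pow_one, pow_one] at h1
      exact mul_inv_eq_iff_eq_mul.1 h1
    rw [hp 6]
    nth_rewrite 1 [h24]
    rfl
  have hl : hA ^ l * hN = hN * hA ^ (6 * l) := by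
    induction l with
    | zero => simp
    | succ l ih =>
      rw [pow_succ, mul_assoc, h, ← mul_assoc, ih, mul_assoc, ← pow_add, Nat.mul_succ]
  rw [← mul_assoc (hA ^ l) hN, hl, mul_assoc hN, ← pow_add]

theorem closure_gen : Subgroup.closure ({hA, hN, hB} : Set H) = ⊤ := by
  apply Subgroup.map_injective H.subtype_injective
  rw [MonoidHom.map_closure, ← MonoidHom.range_eq_map, Subgroup.range_subtype]
  simp only [Set.image_insert_eq, Set.image_singleton]
  rfl

/-- The product of a test. -/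
noncomputable def testProd {G : Type*} [Group G] (a n b c : G) (es : List (ℕ × ℕ)) : G :=
  (es.flatMap fun e => [a ^ e.1, n ^ e.2, b, c]).prod

theorem hN_pow : hN ^ 11 = 1 := Subtype.ext N_pow

theorem orderOf_hN : orderOf hN = 11 := by
  rw [← orderOf_injective H.subtype Subtype.coe_injective]
  exact orderOf_N

theorem test_eq (m : ℕ) {j : ℕ} (hj : j < 11) (t : List (ℕ × ℕ) × ℕ) :
    testK 12 2300 (testWord m j t.1) t.2 = true ↔ testProd (hA ^ m) hN hB (hN ^ j) t.1 ^ t.2 = 1 := by
  have hrep : ∀ es : List (ℕ × ℕ), List.Forall₂ (Rep 12 2300) (testWord m j es)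
      (es.flatMap fun e => [pA ^ (e.1 * m % 23), pN ^ (e.2 % 11), pB, pN ^ j]) := by
    intro es
    induction es with
    | nil => exact List.Forall₂.nil
    | cons e es ih =>
      exact List.Forall₂.cons (rep_aPow (Nat.mod_lt _ (by norm_num)))
        (List.Forall₂.cons (rep_nPow (Nat.mod_lt _ (by norm_num)))
          (List.Forall₂.cons rep_B (List.Forall₂.cons (rep_nPow hj) ih)))
  rw [test_iff (hrep t.1)]
  have key : ((testProd (hA ^ m) hN hB (hN ^ j) t.1 : H) : P) =
      (t.1.flatMap fun e => [pA ^ (e.1 * m % 23), pN ^ (e.2 % 11), pB, pN ^ j]).prod := by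
    rw [testProd, Submonoid.coe_list_prod H.toSubmonoid, List.map_flatMap]
    congr 1
    refine List.flatMap_congr fun e _ => ?_
    simp only [List.map_cons, List.map_nil, Subgroup.coe_pow, hA, hN, hB]
    rw [← pow_mul, mul_comm m e.1, ← orderOf_A, pow_mod_orderOf, ← orderOf_N, pow_mod_orderOf]
  rw [← key]
  exact_mod_cast Iff.rfl

theorem cent_hN {c : H} (h : Commute c hN) : ∃ j < 11, c = hN ^ j := by
  obtain ⟨j, hj, e⟩ := cent_N_pow c.2 (congrArg Subtype.val h.eq)
  exact ⟨j, hj, Subtype.ext e⟩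

theorem mem_inn (α : MulAut H) : α ∈ Inn H := by
  haveI : Fact (Nat.Prime 23) := ⟨by norm_num⟩
  obtain ⟨g, j, hj0, hj, hg⟩ := exists_conj_pow (p := 23) (G := H) (by rw [H_spec.2.1]; norm_num) orderOf_hA
    ((MulEquiv.orderOf_eq α hA).trans orderOf_hA)
  obtain ⟨k, -, hk⟩ := exponents j hj hj0
  obtain ⟨m, hm15, hm⟩ : ∃ m, (m = 1 ∨ m = 5) ∧ (MulAut.conj (hN ^ k * g) * α) hA = hA ^ m := by
    refine ⟨j * 4 ^ k % 23, hk, ?_⟩
    rw [MulAut.mul_apply, MulAut.conj_apply, ← orderOf_hA, pow_mod_orderOf, ← conj_hN k j, ← hg]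
    group
  have hin : ∀ β : H, (MulAut.conj β * α) ∈ Inn H → α ∈ Inn H := by
    intro β h
    have := mul_mem (inv_mem (show MulAut.conj β ∈ Inn H from ⟨β, rfl⟩)) h
    rwa [inv_mul_cancel_left] at this
  refine hin (hN ^ k * g) ?_
  generalize MulAut.conj (hN ^ k * g) * α = δ at hm
  clear hg hk hj0 hj hin g j k α
  obtain ⟨i, hi⟩ : ∃ i : ℕ, hN⁻¹ * δ hN = hA ^ i := by
    refine cent_hA ?_
    have hmul : δ hN * hA ^ m = hA ^ (m * 4) * δ hN := by
      have := congrArg δ hN_hA
      rw [map_mul, map_mul, map_pow, hm, ← pow_mul] at this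
      exact this
    have hm1 : ∀ q : ℕ, q < 23 → (hA ^ m) ^ q = hA → Commute (hN⁻¹ * δ hN) hA := by
      intro q _ hq
      have hc : Commute (hN⁻¹ * δ hN) (hA ^ m) := by
        have h4 : hN * hA ^ m = hA ^ (m * 4) * hN := by
          have h1 := conj_hN 1 m
          rw [pow_one, pow_one] at h1
          exact mul_inv_eq_iff_eq_mul.1 h1
        show hN⁻¹ * δ hN * hA ^ m = hA ^ m * (hN⁻¹ * δ hN)
        rw [mul_assoc, hmul, ← mul_assoc, ← mul_assoc]
        congr 1
        rw [← mul_inv_eq_iff_eq_mul.2 h4]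
        group
      have := hc.pow_right q
      rwa [hq] at this
    rcases hm15 with rfl | rfl
    · exact hm1 1 (by norm_num) (by rw [pow_one, pow_one])
    · refine hm1 14 (by norm_num) ?_
      rw [← pow_mul, show 5 * 14 = 23 * 3 + 1 by norm_num, pow_succ, pow_mul, hA_pow, one_pow, one_mul]
  have hN' : δ hN = hN * hA ^ i := by rw [← hi, mul_inv_cancel_left]
  let ε := MulAut.conj (hA ^ (9 * i)) * δ
  have eA : ε hA = hA ^ m := by
    rw [MulAut.mul_apply, hm, MulAut.conj_apply, ← pow_add, add_comm, pow_add, mul_inv_cancel_right]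
  have eN : ε hN = hN := by
    rw [MulAut.mul_apply, hN', MulAut.conj_apply, conj_l, show 6 * (9 * i) + i = 23 * (2 * i) + 9 * i by ring,
      pow_add, pow_mul, hA_pow, one_pow, one_mul, mul_inv_cancel_right]
  obtain ⟨jb, hjb, hb⟩ : ∃ jb < 11, ε hB = hB * hN ^ jb := by
    have hinv : hB * hN = hN⁻¹ * hB := Subtype.ext B_N
    have hε : ε hB * hN = hN⁻¹ * ε hB := by
      have := congrArg ε hinv
      rw [map_mul, map_mul, map_inv, eN] at this
      exact this
    obtain ⟨jb, hjb, e⟩ := cent_hN (c := hB⁻¹ * ε hB) (by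
      show hB⁻¹ * ε hB * hN = hN * (hB⁻¹ * ε hB)
      rw [mul_assoc, hε, ← mul_assoc, ← mul_assoc]
      congr 1
      rw [inv_mul_eq_iff_eq_mul, ← mul_assoc, hinv, mul_inv_cancel_right])
    exact ⟨jb, hjb, by rw [← e, mul_inv_cancel_left]⟩
  have hm' : m = 1 ∧ jb = 0 := by
    by_contra hne
    have h := List.all_eq_true.1 b_tests.2 m (by rcases hm15 with rfl | rfl <;> simp)
    have h' := List.all_eq_true.1 h jb (List.mem_range.2 hjb)
    simp only [Bool.or_eq_true, Bool.and_eq_true, Nat.beq_eq, List.any_eq_true, Bool.not_eq_true'] at h'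
    obtain ⟨t, ht, hf⟩ := h'.resolve_left hne
    have h1 := (test_eq 1 (j := 0) (by norm_num) t).1 (List.all_eq_true.1 b_tests.1 t ht)
    have himg : ε (testProd (hA ^ 1) hN hB (hN ^ 0) t.1) = testProd (hA ^ m) hN (hB * hN ^ jb) 1 t.1 := by
      rw [testProd, map_list_prod, List.map_flatMap, testProd]
      congr 1
      refine List.flatMap_congr fun e _ => ?_
      simp [eA, eN, hb]
    have hshift : ∀ es, testProd (hA ^ m) hN (hB * hN ^ jb) 1 es = testProd (hA ^ m) hN hB (hN ^ jb) es := by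
      intro es
      induction es with
      | nil => rfl
      | cons e es ih =>
        simp only [testProd, List.flatMap_cons, List.prod_append, List.prod_cons, List.prod_nil, mul_one] at ih ⊢
        rw [ih]
    have h5 := congrArg ε h1
    rw [map_pow, map_one, himg, hshift] at h5
    rw [(test_eq m hjb t).2 h5] at hf
    exact Bool.false_ne_true hf.symm
  obtain ⟨rfl, rfl⟩ := hm'
  rw [pow_zero, mul_one] at hb
  rw [pow_one] at eA
  have hε : ε = 1 := by
    have h : Set.EqOn ε.toMonoidHom (MonoidHom.id H) ({hA, hN, hB} : Set H) := by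
      rintro x (rfl | rfl | rfl)
      · exact eA
      · exact eN
      · exact hb
    exact MulEquiv.ext fun x => DFunLike.congr_fun (MonoidHom.eq_of_eqOn_dense closure_gen h) x
  rw [show δ = (MulAut.conj (hA ^ (9 * i)))⁻¹ from eq_inv_of_mul_eq_one_right hε]
  exact inv_mem ⟨_, rfl⟩

theorem card_out : Nat.card (Out Cfsg.Spor.Co2) = 1 := by
  obtain ⟨e⟩ := H_spec.1
  rw [card_out_congr e]
  have : Subsingleton (Out H) := ⟨fun x y => by
    obtain ⟨α, rfl⟩ := QuotientGroup.mk_surjective x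
    obtain ⟨β, rfl⟩ := QuotientGroup.mk_surjective y
    exact ((QuotientGroup.eq_one_iff α).2 (mem_inn α)).trans ((QuotientGroup.eq_one_iff β).2 (mem_inn β)).symm⟩
  exact Nat.card_unique

end CfsgLib.Sporadic.OutCert.Co2
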